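import Cfsg.Agent.H740.K4.Four

/-!
# The `σ`-fixed parity lemma on a subgroup of odd order (helper307, TEAM K4)

`U ≤ S` of odd order, `ψ` an irreducible character of `U`, `|S|` even: the sum over the `Good` characters `χ` of `S` of
the multiplicities `[χ_U, ψ]` is even.

* `even_sum` : for the members of odd degree of the principal 2-block fixed by the cubing automorphism;
* `even_sum_good` : the same over the set of the `Good` characters;
* `good5_of_four` : four `Good` characters with an odd sum of the multiplicities give `Good5`.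
-/

set_option autoImplicit false

open scoped ComplexConjugate
open Cfsg Cfsg.Agent.Characters.Core Cfsg.Agent.H618.Sigma Cfsg.Agent.Blocks.Local

namespace Cfsg.Agent.H307.K4

universe u

variable {S : Type u} [Group S] {k : ℕ}

/-- **Parity on a subgroup of odd order.** -/
theorem even_sum [Finite S] {M : Ideal AlgInt} [M.IsPrime] (hM : IsPModular 2 M) (hk : Cube S k)
    [Fintype (OddB M S)] [DecidableEq (OddB M S)] (hev : Even (Nat.card S)) (U : Subgroup S) [Fintype U]
    (hU : Odd (Nat.card U)) {ψ : U → ℂ} (hψ : IsIrrCharacter U ψ) (m : IrrCharacter S → ℕ)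
    (hm : ∀ χ : IrrCharacter S, classInner (fun u : U => (χ : S → ℂ) u) ψ = m χ) :
    Even (∑ χ : OddB M S with sigB hk M χ = χ, m χ.1) := by
  have hchar := charP_resField hM
  have hψi : ∀ u : U, MemLocalRing M (conj (ψ u)) := fun u => by
    rw [← isCharacter_apply_inv (isIrr_isCharacter hψ)]
    exact memLocalRing_irr (⟨ψ, hψ⟩ : IrrCharacter U) _
  -- the multiplicities times the order
  have h1 : ∀ χ : IrrCharacter S, ∑ u : U, (χ : S → ℂ) u * conj (ψ u) = ((Nat.card U * m χ : ℕ) : ℂ) := by
    intro χ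
    have h2 := hm χ
    rw [classInner_def] at h2
    have h3 : (Nat.card U : ℂ) ≠ 0 := card_ne_zero_complex
    push_cast
    rw [← h2, mul_inv_cancel_left₀ h3]
  have h4 : ∀ χ : IrrCharacter S, ∑ u : U, redC M ((χ : S → ℂ) u) * redC M (conj (ψ u)) =
      ((Nat.card U * m χ : ℕ) : ResField M) := by
    intro χ
    rw [← redC_natCast, ← h1, redC_sum fun u _ => memLocalRing_mul (memLocalRing_irr χ _) (hψi u)]
    exact Finset.sum_congr rfl fun u _ => (redC_mul (memLocalRing_irr χ _) (hψi u)).symm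
  have h5 : ∑ χ : OddB M S with sigB hk M χ = χ, ((Nat.card U * m χ.1 : ℕ) : ResField M) = 0 := by
    rw [Finset.sum_congr rfl fun (χ : OddB M S) _ => (h4 χ.1).symm, Finset.sum_comm]
    refine Finset.sum_eq_zero fun u _ => ?_
    rw [← Finset.sum_mul]
    have hodd : Odd (orderOf (u : S)) := by
      refine hU.of_dvd_nat ?_
      rw [Subgroup.orderOf_coe]
      exact orderOf_dvd_natCard u
    rw [sum_fixed_principal hM hk hev hodd, zero_mul]
  rw [← Nat.cast_sum, ← Finset.mul_sum, CharP.cast_eq_zero_iff (ResField M) 2] at h5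
  rw [even_iff_two_dvd]
  exact (Nat.Coprime.dvd_of_dvd_mul_left (Nat.coprime_two_left.2 hU) h5)

/-- **Parity on a subgroup of odd order, over the `Good` characters.** -/
theorem even_sum_good [Finite S] (hev : Even (Nat.card S)) (U : Subgroup S) [Fintype U]
    (hU : Odd (Nat.card U)) {ψ : U → ℂ} (hψ : IsIrrCharacter U ψ) (m : IrrCharacter S → ℕ)
    (hm : ∀ χ : IrrCharacter S, classInner (fun u : U => (χ : S → ℂ) u) ψ = m χ) (O : Finset (IrrCharacter S))
    (hO : ∀ χ, χ ∈ O ↔ H601.K4.Good (χ : S → ℂ)) : Even (∑ χ ∈ O, m χ) := by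
  classical
  obtain ⟨M, hM⟩ := Cfsg.Agent.Blocks.ExistsModular.exists_isPModular Nat.prime_two
  have : M.IsPrime := hM.2.1.isPrime
  obtain ⟨k, hk⟩ := H740.K4.exists_cube S
  have := Fintype.ofFinite (OddB M S)
  have h1 := even_sum hM hk hev U hU hψ m hm
  have h2 : ∑ χ : OddB M S with sigB hk M χ = χ, m χ.1 = ∑ χ ∈ O, m χ := by
    refine Finset.sum_bij (fun (χ : OddB M S) _ => χ.1) ?_ ?_ ?_ ?_
    · intro χ hχ
      rw [Finset.mem_filter] at hχ
      exact (hO _).2 (H740.K4.good_of_mem hM hk χ hχ.2)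
    · intro a _ b _ hab
      exact Subtype.ext hab
    · intro χ hχ
      have hg := (hO χ).1 hχ
      refine ⟨⟨χ, hg.b0 M hM χ.2, odd_iff.2 hg.odd.2⟩, ?_, rfl⟩
      rw [Finset.mem_filter]
      exact ⟨Finset.mem_univ _, (sigB_eq_iff hk _).2 fun g => hg.sig k hk.two hk.odd g⟩
    · intro χ _
      rfl
  rwa [h2] at h1

/-- **Four good characters with an odd sum of the multiplicities of `ψ`.** -/
theorem good5_of_four [Finite S] (hev : Even (Nat.card S)) (U : Subgroup S) [Fintype U]
    (hU : Odd (Nat.card U)) {ψ : U → ℂ} (hψ : IsIrrCharacter U ψ) {χ : Fin 4 → S → ℂ} (hinj : Function.Injective χ)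
    (hg : ∀ i, H601.K4.Good (χ i)) {a : Fin 4 → ℕ} (ha : ∀ i, classInner (fun u : U => χ i u) ψ = a i)
    (hodd : Odd (∑ i, a i)) : H601.K4.Good5 S := by
  classical
  have hfin : Finite (IrrCharacter S) := finite_irr
  have := Fintype.ofFinite (IrrCharacter S)
  choose m hm using fun χ : IrrCharacter S =>
    classInner_isNat (isCharacter_comp U.subtype (isIrr_isCharacter χ.2)) (isIrr_isCharacter hψ)
  let O : Finset (IrrCharacter S) := Finset.univ.filter fun χ => H601.K4.Good (χ : S → ℂ)
  have hO : ∀ χ, χ ∈ O ↔ H601.K4.Good (χ : S → ℂ) := fun χ => by simp [O]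
  have h1 := even_sum_good hev U hU hψ m hm O hO
  let c : Fin 4 → IrrCharacter S := fun i => ⟨χ i, (hg i).odd.1⟩
  have hcinj : Function.Injective c := fun i j hij => hinj (congrArg (fun x : IrrCharacter S => (x : S → ℂ)) hij)
  have hcm : ∀ i, m (c i) = a i := by
    intro i
    have h2 := hm (c i)
    have h3 := ha i
    have h4 : ((m (c i) : ℕ) : ℂ) = (a i : ℂ) := h2.symm.trans h3
    exact_mod_cast h4
  have hsub : Finset.univ.image c ⊆ O := by
    intro x hx
    obtain ⟨i, -, rfl⟩ := Finset.mem_image.1 hx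
    exact (hO _).2 (hg i)
  -- a fifth one
  obtain ⟨x, hx, hxc⟩ : ∃ x ∈ O, x ∉ Finset.univ.image c := by
    by_contra hcon
    push Not at hcon
    have h2 : Finset.univ.image c = O := Finset.Subset.antisymm hsub hcon
    rw [← h2, Finset.sum_image fun i _ j _ h => hcinj h] at h1
    simp only [hcm] at h1
    exact (Nat.not_even_iff_odd.2 hodd) h1
  refine ⟨Fin.cons (x : S → ℂ) χ, ?_, ?_⟩
  · rw [Fin.cons_injective_iff]
    refine ⟨?_, hinj⟩
    rintro ⟨i, hi⟩
    apply hxc
    rw [Finset.mem_image]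
    exact ⟨i, Finset.mem_univ _, Subtype.ext hi⟩
  · intro i
    refine Fin.cases ?_ (fun i => ?_) i
    · exact (hO x).1 hx
    · rw [Fin.cons_succ]
      exact hg i

end Cfsg.Agent.H307.K4
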